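import Groth.Agent.H22Alg.LamDet
import Groth.Agent.H22Alg.LamExtFil

/-!
# Sums of lines modulo the second step of the filtration
-/

set_option autoImplicit false
set_option linter.style.haveILetI false

universe u

open LambdaRing Finset

namespace Groth.Agent.H16Derived.KCurve

variable {K : Type u} [CommRing K] [LambdaOps K] {P : PosStructure K}

theorem mul_mem_two {a b : K} (ha : P.aug a = 0) (hb : P.aug b = 0) : a * b ∈ gammaFiltration P 2 := by
  rw [gammaFiltration, if_neg two_ne_zero]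
  refine AddSubgroup.subset_closure ⟨[(1, a), (1, b)], ?_, by simp, ?_⟩
  · simp [ha, hb]
  · simp [H27Lambda.gamma_one]

theorem sum_lines (m : ℕ) : ∀ (s : Fin m → K), (∀ j, P.IsLine (s j)) →
    P.aug (∑ j, s j) = m ∧ P.aug (∏ j, s j) = 1 ∧
    (1 ≤ m → (∑ j, s j) ∈ P.pos ∧ H22Alg.LamDet.top P (∑ j, s j) = ∏ j, s j) ∧
    (∑ j, s j) - m - ((∏ j, s j) - 1) ∈ gammaFiltration P 2 := by
  induction m with
  | zero => intro s _; simp [AddSubgroup.zero_mem]
  | succ m ih =>
    intro s hs
    obtain ⟨h1, h2, h3, h4⟩ := ih (fun j => s j.castSucc) fun j => hs _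
    have hl := hs (Fin.last m)
    rw [Fin.sum_univ_castSucc, Fin.prod_univ_castSucc]
    refine ⟨by rw [map_add, h1, hl.2]; push_cast; rfl, by rw [map_mul, h2, hl.2, mul_one], fun _ => ?_, ?_⟩
    · rcases Nat.eq_zero_or_pos m with rfl | hm
      · simp only [Finset.univ_eq_empty, Finset.sum_empty, Finset.prod_empty, zero_add, one_mul]
        exact ⟨hl.1, H22Alg.LamDet.top_line hl⟩
      · obtain ⟨hp, ht⟩ := h3 hm
        exact ⟨P.add_mem _ _ hp hl.1, by rw [H22Alg.LamDet.top_add hp hl.1, ht, H22Alg.LamDet.top_line hl]⟩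
    · have h5 : (s (Fin.last m) - 1) * ((∏ j : Fin m, s j.castSucc) - 1) ∈ gammaFiltration P 2 :=
        mul_mem_two (by rw [map_sub, hl.2, map_one, sub_self]) (by rw [map_sub, h2, map_one, sub_self])
      convert AddSubgroup.sub_mem _ h4 h5 using 1
      push_cast
      ring

end Groth.Agent.H16Derived.KCurve
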