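import Groth.Agent.H16Derived.KCurve.Lambda
import Groth.Agent.H22Alg.PB.Split
import Groth.Agent.H22Alg.KGammaVanish
import Groth.Agent.H22Alg.CurveProj
import Groth.Agent.H17.FLI.DetSES
import Groth.Agent.H28Vert.PicVert

/-!
# `K₀` of a curve is `ℤ × Pic`
-/

set_option autoImplicit false
set_option linter.style.haveILetI false

universe u

open CategoryTheory CategoryTheory.Limits AlgebraicGeometry Opposite TopologicalSpace LambdaRing
attribute [local instance] HasDerivedCategory.standard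

noncomputable section

namespace Groth.Agent.H16Derived.KCurve

open Groth.Agent.H22Alg

variable {X : Scheme.{u}} [IsNoetherian X] [ConnectedSpace ↥X]

theorem finLocFreeOfRank_det {n : ℕ} {E : X.Modules} (hE : FlatMod.IsFinLocFreeOfRank n E) :
    FlatMod.IsFinLocFreeOfRank 1 (KExists.extP n E) := by
  obtain ⟨x₀⟩ : Nonempty ↥X := inferInstance
  have hE' := KModel.finLocFree_of_rank hE
  have h := KExists.ofRank_rk (KExists.finLocFree_extP n hE') x₀
  rwa [KExists.rk_extPow hE' (KExists.extP_spec n hE') x₀, KExists.rk_of_rank hE x₀, Nat.choose_self] at h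

section Model

variable {K : Type (u + 1)} [CommRing K] [LambdaOps K] {P : PosStructure K} {φ : SGA6.Kvb X →+ K}
  (hK : KRR.IsModel X K P φ) {A : X.Modules} (hA : CohB1.IsAmple A) (hd : topologicalKrullDim X ≤ (1 : ℕ))

include hK hA hd

/-- The class of a bundle. -/
theorem cl_eq {n : ℕ} {E : X.Modules} (hE : FlatMod.IsFinLocFreeOfRank n E) :
    φ (KRR.cl X E) = n + (φ (KRR.cl X (KExists.extP n E)) - 1) := by
  have hE' := KModel.finLocFree_of_rank hE
  have hlam : LambdaOps.lam n (φ (KRR.cl X E)) = φ (KRR.cl X (KExists.extP n E)) :=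
    hK.map_lam n E _ hE' (KExists.finLocFree_extP n hE') (KExists.extP_spec n hE')
  obtain ⟨Y, _, _, f, K', _, _, P', φ', hK', g, hg, hinj, hfil, L, hL, hsum⟩ := PB.Split.exists_split n hK hE
  let G := KPullLam.ringHom hK' hK hg
  have hline : ∀ j, P'.IsLine (φ' (KRR.cl Y (L j))) := fun j =>
    ⟨(hK'.mem_pos_iff _).2 ⟨1, L j, le_rfl, hL j, rfl⟩, hK'.aug_cl 1 _ (hL j)⟩
  obtain ⟨h1, -, h3, h4⟩ := sum_lines n _ hline
  have hprod : LambdaOps.lam n (∑ j, φ' (KRR.cl Y (L j))) = ∏ j, φ' (KRR.cl Y (L j)) := by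
    rcases Nat.eq_zero_or_pos n with rfl | hn
    · rw [LambdaOps.lam_zero]; simp
    · have h := (h3 hn).2
      rwa [LamDet.top, h1, Int.toNat_natCast] at h
  let x := φ (KRR.cl X E) - n - (φ (KRR.cl X (KExists.extP n E)) - 1)
  suffices x = 0 by
    have h := sub_eq_zero.1 this
    rw [← h]; ring
  have hGsum : G (φ (KRR.cl X E)) = ∑ j, φ' (KRR.cl Y (L j)) := hsum
  have hx : G x ∈ gammaFiltration P' 2 := by
    rw [map_sub, map_sub, map_sub, map_natCast, map_one, ← hlam, KPullLam.isLambdaHom hK' hK hg n, hGsum, hprod]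
    exact h4
  have h2 := hfil (fun Z _ _ K'' _ _ Q ψ hψ => PB.Split.hasSplitting hψ) 2 x hx
  rw [KGammaVanish.gammaFiltration_eq_bot' hK hA hd] at h2
  exact h2

/-- Every class is a multiple of one plus a line. -/
theorem exists_eq (a : SGA6.Kvb X) : ∃ (n : ℤ) (L : X.Modules), PicF.IsInvertible L ∧
    a = (n - 1) • KRR.cl X (Coh.structureModule X) + KRR.cl X L := by
  obtain ⟨E, F, hE, hF, rfl⟩ := KExists.exists_diff a
  obtain ⟨n, hn⟩ := KModel.exists_rank hE
  obtain ⟨m, hm⟩ := KModel.exists_rank hF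
  have hDE := KExists.isInvertible_of_rank_one (finLocFreeOfRank_det hn)
  have hDF := KExists.isInvertible_of_rank_one (finLocFreeOfRank_det hm)
  obtain ⟨M, hM, ⟨ε⟩⟩ := H11Sym.exists_inverse hDF
  refine ⟨(n : ℤ) - m, CohB1.tensorMod (KExists.extP n E) M, H11Ample.isInvertible_tensor hDE hM, hK.bijective.1 ?_⟩
  rw [map_add, map_zsmul, map_sub, hK.map_one, cl_eq hK hA hd hn, cl_eq hK hA hd hm,
    KModel.map_tensorMod hK (KModel.finLocFree_invertible hDE) (KModel.finLocFree_invertible hM)]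
  have hline : ∀ {N : X.Modules}, PicF.IsInvertible N → P.IsLine (φ (KRR.cl X N)) := fun {N} hN =>
    ⟨(hK.mem_pos_iff _).2 ⟨1, N, le_rfl, KModel.finLocFreeOfRank_invertible hN, rfl⟩, KModel.aug_line hK hN⟩
  have hMF : φ (KRR.cl X M) * φ (KRR.cl X (KExists.extP m F)) = 1 := by
    rw [← KModel.map_tensorMod hK (KModel.finLocFree_invertible hM) (KModel.finLocFree_invertible hDF),
      ← hK.map_one]
    exact congrArg φ (KModel.cl_iso ε
      (KModel.finLocFree_tensorMod (KModel.finLocFree_invertible hM) (KModel.finLocFree_invertible hDF)))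
  have h0 : ∀ {N N' : X.Modules}, PicF.IsInvertible N → PicF.IsInvertible N' →
      (φ (KRR.cl X N) - 1) * (φ (KRR.cl X N') - 1) = 0 := fun {N N'} hN hN' => by
    have h := KLineVanish.prod_line_sub_one_eq_zero hK hA hd (show 1 < 2 from one_lt_two)
      ![φ (KRR.cl X N), φ (KRR.cl X N')] (Fin.forall_fin_two.2 ⟨hline hN, hline hN'⟩)
    simpa [Fin.prod_univ_two] using h
  have e1 := h0 hM hDF
  have e2 := h0 hDE hM
  rw [zsmul_eq_mul, mul_one]
  push_cast
  linear_combination e1 - e2 - hMF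

end Model

/-- The determinant on `K₀`. -/
theorem exists_detHom [PicGrp.Law X] : ∃ δ : SGA6.Kvb X →+ Additive (PicLoc.PicSet X),
    ∀ (L : X.Modules) (hL : PicF.IsInvertible L), δ (KRR.cl X L) = Additive.ofMul (PicGrp.cls L hL) := by
  classical
  obtain ⟨x₀⟩ : Nonempty ↥X := inferInstance
  have hD : ∀ {E : X.Modules}, FlatMod.IsFinLocFree E → PicF.IsInvertible (KExists.extP (KExists.rk x₀ E) E) :=
    fun {E} hE => KExists.isInvertible_of_rank_one (finLocFreeOfRank_det (KExists.ofRank_rk hE x₀))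
  obtain ⟨δ, hδ⟩ := KModel.exists_lift (G := Additive (PicLoc.PicSet X))
    (fun E => if h : FlatMod.IsFinLocFree E then Additive.ofMul (PicGrp.cls _ (hD h)) else 0) fun S hS a b c => by
      simp only [dif_pos a, dif_pos b, dif_pos c, ← ofMul_mul]
      refine congrArg Additive.ofMul (Subtype.ext ?_)
      rw [PicGrp.cls_mul_cls_val, PicGrp.cls_val, PicGrp.cl_eq_cl_iff]
      have hn := KExists.rk_add hS a c x₀
      obtain ⟨i⟩ := H17.FLI.DetSES.nonempty_iso (finSumFinEquiv.trans (finCongr hn.symm)) hS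
        (KExists.ofRank_rk a x₀) (H8Props.FinLocFree.isQCoh_of_isFinLocFree _ b) (KExists.ofRank_rk c x₀)
        (KExists.extP_spec _ a) (KExists.extP_spec _ b) (KExists.extP_spec _ c)
      exact ⟨i.symm⟩
  refine ⟨δ, fun L hL => ?_⟩
  have hL' := KModel.finLocFree_invertible hL
  rw [hδ L hL', dif_pos hL']
  refine congrArg Additive.ofMul ((PicGrp.cls_eq_cls_iff _ hL).2 ?_)
  have h1 : KExists.rk x₀ L = 1 := KExists.rk_of_rank (KModel.finLocFreeOfRank_invertible hL) x₀
  rw [h1]
  exact ExtPowHom.nonempty_iso (KExists.extP_spec 1 hL') (KExists.isExtPow_one L)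

/-- The expression is unique. -/
theorem eq_of_eq (n m : ℤ) (L L' : X.Modules) (hL : PicF.IsInvertible L) (hL' : PicF.IsInvertible L')
    (h : (n - 1) • KRR.cl X (Coh.structureModule X) + KRR.cl X L =
      (m - 1) • KRR.cl X (Coh.structureModule X) + KRR.cl X L') : n = m ∧ Nonempty (L ≅ L') := by
  obtain ⟨x₀⟩ : Nonempty ↥X := inferInstance
  letI : PicGrp.Law X := H28Vert.picLaw X
  constructor
  · obtain ⟨ε, hε⟩ := KExists.exists_aug x₀
    have h1 : ∀ N : X.Modules, PicF.IsInvertible N → ε (KRR.cl X N) = 1 := fun N hN => by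
      rw [hε N (KModel.finLocFree_invertible hN), KExists.rk_of_rank (KModel.finLocFreeOfRank_invertible hN) x₀,
        Nat.cast_one]
    have h' := congrArg ε h
    rw [map_add, map_add, map_zsmul, map_zsmul, h1 _ (PicLoc.isInvertible_structureModule X), h1 L hL, h1 L' hL',
      smul_eq_mul, smul_eq_mul] at h'
    omega
  · obtain ⟨δ, hδ⟩ := exists_detHom (X := X)
    have h' := congrArg δ h
    rw [map_add, map_add, map_zsmul, map_zsmul, hδ _ (PicLoc.isInvertible_structureModule X), hδ L hL, hδ L' hL',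
      PicGrp.cls_structureModule_eq_one, ofMul_one, zsmul_zero, zsmul_zero, zero_add, zero_add] at h'
    exact (PicGrp.cls_eq_cls_iff hL hL').1 (Additive.ofMul.injective h')

end Groth.Agent.H16Derived.KCurve
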